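import Cfsg.Agent.H43.W53.Cls

/-!
# S2453, row `PSU_n(q)`: the numbers
-/

set_option autoImplicit false
namespace Cfsg.Agent.H43.W53
open Polynomial Cfsg.Agent.H950.War

theorem big_pow {m : ℕ} (hm : 13 ≤ m) : 6 * (m + 5) < 2 ^ m := by
  induction m, hm using Nat.le_induction with
  | base => norm_num
  | succ m hm ih => rw [pow_succ]; omega

theorem numeric {n q M e : ℕ} (hn : 4 ≤ n) (hq : 2 ≤ q) (hM : 2 ≤ M) (he : 1 ≤ e)
    (hb : M ^ (8 * M ^ 2) ≤ q ^ n ^ 2) (h : e = 1 ∨ (6 ≤ M ∧ 2 * e ≤ M ^ 2)) :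
    2 * (e * (q + 1)) < q ^ (n / 2) := by
  obtain ⟨m, hm⟩ : ∃ m, m = n / 2 := ⟨_, rfl⟩
  have hm2 : 2 ≤ m := by omega
  rw [← hm]
  rcases h with rfl | ⟨hM6, h2e⟩
  · rw [one_mul]
    rcases hq.eq_or_lt with rfl | hq3
    · rcases hm2.eq_or_lt with h2 | hm3
      · exfalso
        have hn5 : n ≤ 5 := by omega
        have h1 : 2 ^ 32 ≤ M ^ (8 * M ^ 2) := by
          calc 2 ^ 32 = 2 ^ (8 * 2 ^ 2) := by norm_num
            _ ≤ M ^ (8 * 2 ^ 2) := Nat.pow_le_pow_left hM _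
            _ ≤ M ^ (8 * M ^ 2) :=
              Nat.pow_le_pow_right (by omega) (Nat.mul_le_mul_left _ (Nat.pow_le_pow_left hM 2))
        have h3 : 2 ^ n ^ 2 ≤ 2 ^ 25 := Nat.pow_le_pow_right (by norm_num)
          ((Nat.pow_le_pow_left hn5 2).trans (by norm_num))
        have h4 := (h1.trans hb).trans h3
        norm_num at h4
      · have : 2 ^ 3 ≤ 2 ^ m := Nat.pow_le_pow_right (by norm_num) hm3
        omega
    · have h1 : q ^ 2 ≤ q ^ m := Nat.pow_le_pow_right (by omega) hm2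
      have h2 : 3 * q ≤ q ^ 2 := by rw [sq]; exact Nat.mul_le_mul_right _ hq3
      omega
  · by_contra hcon
    push Not at hcon
    obtain ⟨T, hT⟩ : ∃ T, T = M ^ 2 := ⟨_, rfl⟩
    rw [← hT] at h2e
    have hT36 : 36 ≤ T := by rw [hT]; nlinarith
    obtain ⟨a, ha⟩ : ∃ a, a = q ^ (m - 1) := ⟨_, rfl⟩
    have hqa : q ^ m = q * a := by
      rw [ha, ← pow_succ']; congr 1; omega
    have h1 : q * a ≤ T * (q + 1) := by
      rw [← hqa]
      calc q ^ m ≤ 2 * (e * (q + 1)) := hcon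
        _ = 2 * e * (q + 1) := by ring
        _ ≤ T * (q + 1) := Nat.mul_le_mul_right _ h2e
    have h2 : 2 * a ≤ 3 * T := by
      have h3 : q * (2 * a) ≤ q * (3 * T) := by
        calc q * (2 * a) = 2 * (q * a) := by ring
          _ ≤ 2 * (T * (q + 1)) := Nat.mul_le_mul_left _ h1
          _ = T * (2 * q + 2) := by ring
          _ ≤ T * (3 * q) := Nat.mul_le_mul_left _ (by omega)
          _ = q * (3 * T) := by ring
      exact Nat.le_of_mul_le_mul_left h3 (by omega)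
    have h4 : a ≤ T ^ 2 := by nlinarith
    -- T ^ (4 T) ≤ a ^ (4 (m + 5)) ≤ T ^ (8 (m + 5))
    have h5 : T ^ (4 * T) ≤ T ^ (8 * (m + 5)) := by
      calc T ^ (4 * T) = M ^ (8 * M ^ 2) := by
            rw [hT, ← pow_mul]; congr 1; ring
        _ ≤ q ^ n ^ 2 := hb
        _ ≤ q ^ ((m - 1) * (4 * (m + 5))) := by
            refine Nat.pow_le_pow_right (by omega) ?_
            have hn' : n ≤ 2 * m + 1 := by omega
            obtain ⟨c, rfl⟩ : ∃ c, m = c + 2 := ⟨m - 2, by omega⟩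
            calc n ^ 2 ≤ (2 * (c + 2) + 1) ^ 2 := Nat.pow_le_pow_left hn' 2
              _ ≤ (c + 2 - 1) * (4 * (c + 2 + 5)) := by
                rw [show c + 2 - 1 = c + 1 by omega]
                nlinarith
        _ = a ^ (4 * (m + 5)) := by rw [ha, ← pow_mul]
        _ ≤ (T ^ 2) ^ (4 * (m + 5)) := Nat.pow_le_pow_left h4 _
        _ = T ^ (8 * (m + 5)) := by rw [← pow_mul]; congr 1; ring
    have h6 : 4 * T ≤ 8 * (m + 5) := (Nat.pow_le_pow_iff_right (by omega)).1 h5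
    have h7 : 2 ^ (m - 1) ≤ a := by rw [ha]; exact Nat.pow_le_pow_left hq _
    have h8 : 2 ^ m = 2 * 2 ^ (m - 1) := by rw [← pow_succ']; congr 1; omega
    have h9 := big_pow (m := m) (by omega)
    omega

/-- **The polynomial under the numerical hypothesis.** -/
theorem exists_pw_of {F : Type*} [Field F] [Fintype F] {q : ℕ} (hF : Fintype.card F = q ^ 2) (σ : F →+* F)
    (hσ : ∀ a, σ a = a ^ q) {n M e : ℕ} (hn : 4 ≤ n) (hM : 2 ≤ M) (he : 1 ≤ e)
    (hb : M ^ (8 * M ^ 2) ≤ q ^ n ^ 2) (h : e = 1 ∨ (6 ≤ M ∧ 2 * e ≤ M ^ 2)) :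
    ∃ f : F[X], PW q σ (n / 2) e f := by
  have hq : 2 ≤ q := by
    have h1 : 1 < Fintype.card F := Fintype.one_lt_card
    rw [hF] at h1
    by_contra hcon
    interval_cases q <;> simp at h1
  exact exists_pw hF σ hσ (by omega) he (numeric hn hq hM he hb h)

end Cfsg.Agent.H43.W53
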