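import Cfsg.Agent.H950.War.Crit
import Cfsg.Agent.H951.OreU.T7a
import Cfsg.Agent.H24.Ore.CorStep
import Cfsg.Agent.H43.W53.Num

/-!
# S2453, row `PSU_n(q)`: `n = 3`
-/

set_option autoImplicit false
namespace Cfsg.Agent.H43.W53
open Module Polynomial Cfsg.Agent.H951 Matrix Cfsg.Agent.H98.Ore Cfsg.Agent.H950.War Cfsg.Agent.H951.OreU

theorem numeric3 {q M e : ℕ} (hM : 2 ≤ M) (he : 1 ≤ e) (hb : M ^ (8 * M ^ 2) ≤ q ^ 9)
    (h : e = 1 ∨ (6 ≤ M ∧ 2 * e ≤ M ^ 2)) : e + 1 < q := by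
  rcases h with rfl | ⟨hM6, h2e⟩
  · by_contra hcon
    have hq : q ≤ 2 := by omega
    have h1 : 2 ^ 32 ≤ M ^ (8 * M ^ 2) := by
      calc 2 ^ 32 = 2 ^ (8 * 2 ^ 2) := by norm_num
        _ ≤ M ^ (8 * 2 ^ 2) := Nat.pow_le_pow_left hM _
        _ ≤ M ^ (8 * M ^ 2) :=
          Nat.pow_le_pow_right (by omega) (Nat.mul_le_mul_left _ (Nat.pow_le_pow_left hM 2))
    have h3 := (h1.trans hb).trans (Nat.pow_le_pow_left hq 9)
    norm_num at h3
  · by_contra hcon
    obtain ⟨T, hT⟩ : ∃ T, T = M ^ 2 := ⟨_, rfl⟩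
    rw [← hT] at h2e
    have hT36 : 36 ≤ T := by rw [hT]; nlinarith
    have h5 : T ^ (4 * T) ≤ T ^ 9 := by
      calc T ^ (4 * T) = M ^ (8 * M ^ 2) := by
            rw [hT, ← pow_mul]; congr 1; ring
        _ ≤ q ^ 9 := hb
        _ ≤ T ^ 9 := Nat.pow_le_pow_left (by omega) _
    have h6 : 4 * T ≤ 9 := (Nat.pow_le_pow_iff_right (by omega)).1 h5
    omega

universe u v

variable {F : Type u} {V : Type v} [Field F] [Fintype F] [AddCommGroup V] [Module F V] [FiniteDimensional F V]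
  {q : ℕ} {σ : F →+* F} {B : V → V → F}

/-- **`n = 3`.** -/
theorem W_three (hB : HS q σ B) {e : ℕ} (he : 1 ≤ e) (heq : e + 1 < q) (hn : finrank F V = 3) {g : V ≃ₗ[F] V}
    (hg : g ∈ SGr B) (hs : ∀ c : F, (g : End F V) ≠ c • (1 : End F V)) : W B e (q ^ 2 - 1) g := by
  have hgi : Isom B (g : End F V) := (mem_SGr.1 hg).1
  obtain ⟨w, hw, hgw⟩ := exists_typeI hB hgi hs
  obtain ⟨U, g₁, b, h⟩ := exists_step hB hgi hw hgw
  obtain ⟨hU, hfr⟩ := Step.hs hB hgi h
  obtain ⟨R, -, hR⟩ := Cfsg.Agent.H24.Ore.cor_step_odd hB hgi h (κ := Empty) (P₁ := 0)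
    (by rw [Fintype.card_empty]; omega)
    ⟨Empty.elim, Empty.elim, ⟨fun i => i.elim, fun i => i.elim, fun i => i.elim⟩, fun i => i.elim⟩ 1
  have hP : Matrix.fromBlocks (Matrix.of fun (_ _ : Unit) => (1 : F)) R 0 (0 : Matrix Empty Empty F) = 1 := by
    ext i j
    rcases i with i | i
    · rcases j with j | j
      · rw [Matrix.fromBlocks_apply₁₁, Subsingleton.elim j i, Matrix.one_apply_eq]
        rfl
      · exact j.elim
    · exact i.elim
  rw [hP] at hR
  -- the generator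
  obtain ⟨η, hη⟩ := IsCyclic.exists_generator (α := Fˣ)
  have hηord : orderOf η = q ^ 2 - 1 := by
    rw [orderOf_eq_card_of_forall_mem_zpowers hη, Nat.card_units, Nat.card_eq_fintype_card, hB.card]
  obtain ⟨x0, hx0⟩ : ∃ x0 : F, x0 = (η : F) := ⟨_, rfl⟩
  have hord : ∀ k : ℕ, x0 ^ k = 1 → q ^ 2 - 1 ∣ k := by
    intro k hk
    rw [← hηord]
    apply orderOf_dvd_of_pow_eq_one
    apply Units.ext
    rw [Units.val_pow_eq_pow_val, ← hx0, hk, Units.val_one]
  have hx00 : x0 ≠ 0 := by rw [hx0]; exact η.ne_zero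
  obtain ⟨x, hx⟩ : ∃ x, x = x0 ^ e := ⟨_, rfl⟩
  have hx1 : x ^ (q + 1) ≠ 1 := by
    rw [hx, ← pow_mul]
    intro h1
    have h2 := Nat.le_of_dvd (Nat.mul_pos he (by omega)) (hord _ h1)
    have h3 : q ^ 2 - 1 = (q - 1) * (q + 1) := by
      obtain ⟨r, rfl⟩ : ∃ r, q = r + 1 := ⟨q - 1, by omega⟩
      have : (r + 1) ^ 2 = r * (r + 1 + 1) + 1 := by ring
      rw [this]; simp
    rw [h3] at h2
    have h4 := Nat.le_of_mul_le_mul_right h2 (by omega)
    omega
  have hxne : x ≠ 0 := by rw [hx]; exact pow_ne_zero _ hx00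
  have hx2 : x ^ q ≠ x ^ 2 := by
    intro h1
    have h2 : x ^ (q - 2) = 1 := by
      apply mul_right_cancel₀ (pow_ne_zero 2 hxne)
      rw [← pow_add, one_mul, Nat.sub_add_cancel (by omega), h1]
    rw [hx, ← pow_mul] at h2
    have h3 := Nat.le_of_dvd (Nat.mul_pos he (by omega)) (hord _ h2)
    have h4 : e * (q - 2) ≤ (q - 2) * (q - 2) := Nat.mul_le_mul_right _ (by omega)
    obtain ⟨r, rfl⟩ : ∃ r, q = r + 2 := ⟨q - 2, by omega⟩
    have h5 : (r + 2) ^ 2 - 1 = r * r + 4 * r + 3 := by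
      have : (r + 2) ^ 2 = r * r + 4 * r + 4 := by ring
      omega
    rw [h5] at h3
    simp only [Nat.add_sub_cancel] at h3 h4
    omega
  have hσx : σ x ≠ 0 := (map_ne_zero σ).2 hxne
  have hpow : (Matrix.diagonal (fun _ : Unit ⊕ Empty => x0)) ^ e = Matrix.diagonal (fun _ : Unit ⊕ Empty => x) := by
    rw [Matrix.diagonal_pow, hx]
    rfl
  have hdet : (Matrix.diagonal (fun _ : Unit ⊕ Empty => x)).det = x := by
    rw [Matrix.det_diagonal]; simp
  have hdet0 : (Matrix.diagonal (fun _ : Unit ⊕ Empty => x0)).det = x0 := by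
    rw [Matrix.det_diagonal]; simp
  have hcp : (Matrix.diagonal (fun _ : Unit ⊕ Empty => x)).charpoly = X - C x := by
    rw [Matrix.charpoly_diagonal]; simp
  refine criterionW hB hg (ι := Unit ⊕ Empty) (Or.inr (by rw [hn]; rfl)) (P := 1)
    (Z₀ := Matrix.diagonal (fun _ : Unit ⊕ Empty => x0)) (h := 1) (t := e) hR
    (by rw [one_mul, mul_one]) Matrix.det_one (by rw [hdet0]; exact hx00) (fun h2 => ?_) ?_ ?_ ?_
  · exfalso
    rw [hn] at h2
    have h3 : Fintype.card (Unit ⊕ Empty) = 1 := rfl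
    omega
  · rw [Matrix.diagonal_pow]
    have h1 : (fun _ : Unit ⊕ Empty => x0) ^ (q ^ 2 - 1) = fun _ => 1 := by
      funext i
      rw [Pi.pow_apply, hx0, ← Units.val_pow_eq_pow_val, ← hηord, pow_orderOf_eq_one, Units.val_one]
    rw [h1]
    exact Matrix.diagonal_one
  · rw [hpow, hcp]
    have h1 : ((X - C x : F[X]).map σ).reverse = C (-σ x) * (X - C (σ x)⁻¹) := by
      rw [Polynomial.map_sub, Polynomial.map_X, Polynomial.map_C]
      ext i
      rw [Polynomial.coeff_reverse, Polynomial.natDegree_X_sub_C, Polynomial.coeff_C_mul, Polynomial.coeff_sub,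
        Polynomial.coeff_sub]
      rcases i with _ | _ | i
      · rw [Polynomial.revAt_le (by omega)]
        simp [hσx]
      · rw [Polynomial.revAt_le (by omega)]
        simp
      · rw [Polynomial.revAt_eq_self_of_lt (by omega)]
        simp [Polynomial.coeff_X, Polynomial.coeff_C]
    rw [h1]
    have h2 : IsUnit (C (-σ x) : F[X]) := Polynomial.isUnit_C.2 (isUnit_iff_ne_zero.2 (neg_ne_zero.2 hσx))
    rw [isCoprime_mul_unit_left_right h2]
    apply Polynomial.isCoprime_X_sub_C_of_isUnit_sub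
    rw [isUnit_iff_ne_zero, sub_ne_zero]
    intro h3
    apply hx1
    calc x ^ (q + 1) = σ x * x := by rw [pow_succ, ← hB.sig]
      _ = σ x * (σ x)⁻¹ := by rw [← h3]
      _ = 1 := mul_inv_cancel₀ hσx
  · rw [hpow, hdet, hcp, Polynomial.eval_sub, Polynomial.eval_X, Polynomial.eval_C, hB.sig]
    intro h1
    apply hx2
    have h2 : x ^ q * x⁻¹ = x := sub_eq_zero.1 h1
    calc x ^ q = x ^ q * x⁻¹ * x := by rw [inv_mul_cancel_right₀ hxne]
      _ = x ^ 2 := by rw [h2, pow_two]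

end Cfsg.Agent.H43.W53
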