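import Cfsg.Agent.S0280

/-!
# S2453, row `PSU_n(q)`: `|PSU_n(q)| ≤ q ^ (n ^ 2 - 1)`
-/

set_option autoImplicit false
namespace Cfsg.Agent.H43.W53
open Cfsg

/-- the product in the order of `PSU_n(q)` -/
def pr (q n : ℕ) : ℕ := ∏ i ∈ Finset.range n, (if Even i then q ^ (i + 1) + 1 else q ^ (i + 1) - 1)

theorem pr_succ (q n : ℕ) : pr q (n + 1) = pr q n * (if Even n then q ^ (n + 1) + 1 else q ^ (n + 1) - 1) :=
  Finset.prod_range_succ _ _

theorem pr_odd {q : ℕ} (hq : 2 ≤ q) (k : ℕ) : pr q (2 * k + 1) * q ≤ (q + 1) * q ^ ((k + 1) * (2 * k + 1)) := by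
  induction k with
  | zero => simp [pr]
  | succ k ih =>
    rw [show 2 * (k + 1) + 1 = (2 * k + 1 + 1) + 1 by ring, pr_succ, pr_succ,
      if_neg (by rw [Nat.not_even_iff_odd]; exact odd_two_mul_add_one k),
      if_pos (by rw [show 2 * k + 1 + 1 = 2 * (k + 1) by ring]; exact even_two_mul _)]
    have h1 : (q ^ (2 * k + 1 + 1) - 1) * (q ^ (2 * k + 1 + 1 + 1) + 1) ≤ q ^ (4 * k + 5) := by
      have h2 : q ^ (4 * k + 5) = q ^ (2 * k + 1 + 1) * q ^ (2 * k + 1 + 1 + 1) := by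
        rw [← pow_add]; congr 1; ring
      have h3 : q ^ (2 * k + 1 + 1) ≤ q ^ (2 * k + 1 + 1 + 1) := Nat.pow_le_pow_right (by omega) (by omega)
      have h4 : 1 ≤ q ^ (2 * k + 1 + 1) := Nat.one_le_pow _ _ (by omega)
      rw [h2]
      generalize q ^ (2 * k + 1 + 1 + 1) = y at *
      generalize q ^ (2 * k + 1 + 1) = z at *
      obtain ⟨x, rfl⟩ : ∃ x, z = x + 1 := ⟨z - 1, by omega⟩
      simp only [Nat.add_sub_cancel]
      nlinarith
    calc pr q (2 * k + 1) * (q ^ (2 * k + 1 + 1) - 1) * (q ^ (2 * k + 1 + 1 + 1) + 1) * q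
        = (pr q (2 * k + 1) * q) * ((q ^ (2 * k + 1 + 1) - 1) * (q ^ (2 * k + 1 + 1 + 1) + 1)) := by ring
      _ ≤ ((q + 1) * q ^ ((k + 1) * (2 * k + 1))) * q ^ (4 * k + 5) := Nat.mul_le_mul ih h1
      _ = (q + 1) * q ^ ((k + 1 + 1) * (2 * k + 1 + 1 + 1)) := by
        rw [mul_assoc, ← pow_add]; congr 2; ring

theorem pr_le {q : ℕ} (hq : 2 ≤ q) {n : ℕ} (hn : 1 ≤ n) : pr q n * q ≤ (q + 1) * q ^ (n * (n + 1) / 2) := by
  rcases Nat.even_or_odd' n with ⟨k, rfl | rfl⟩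
  · obtain ⟨j, rfl⟩ : ∃ j, k = j + 1 := ⟨k - 1, by omega⟩
    rw [show 2 * (j + 1) = 2 * j + 1 + 1 by ring, pr_succ,
      if_neg (by rw [Nat.not_even_iff_odd]; exact odd_two_mul_add_one j)]
    have h1 : (2 * j + 1 + 1) * (2 * j + 1 + 1 + 1) / 2 = (j + 1) * (2 * j + 1) + (2 * j + 2) := by
      rw [show (2 * j + 1 + 1) * (2 * j + 1 + 1 + 1) = 2 * ((j + 1) * (2 * j + 1) + (2 * j + 2)) by ring]
      exact Nat.mul_div_cancel_left _ (by norm_num)
    calc pr q (2 * j + 1) * (q ^ (2 * j + 1 + 1) - 1) * q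
        = (pr q (2 * j + 1) * q) * (q ^ (2 * j + 1 + 1) - 1) := by ring
      _ ≤ ((q + 1) * q ^ ((j + 1) * (2 * j + 1))) * q ^ (2 * j + 2) :=
        Nat.mul_le_mul (pr_odd hq j) (Nat.sub_le _ _)
      _ = (q + 1) * q ^ ((2 * j + 1 + 1) * (2 * j + 1 + 1 + 1) / 2) := by
        rw [h1, mul_assoc, ← pow_add]
  · refine (pr_odd hq k).trans (le_of_eq ?_)
    congr 2
    rw [show (2 * k + 1) * (2 * k + 1 + 1) = 2 * ((k + 1) * (2 * k + 1)) by ring]
    exact (Nat.mul_div_cancel_left _ (by norm_num)).symm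

/-- **The order.** -/
theorem card_psu_le {F : Type*} [Field F] [Fintype F] {q : ℕ} (hF : Fintype.card F = q ^ 2) {n : ℕ}
    (hn : 2 ≤ n) : q * Nat.card (PSU n F q) ≤ q ^ n ^ 2 := by
  have hq : 2 ≤ q := by
    have h1 : 1 < Fintype.card F := Fintype.one_lt_card
    rw [hF] at h1
    by_contra hcon
    interval_cases q <;> simp at h1
  have h1 := S0280.result hF n hn
  have h2 := pr_le hq (n := n) (by omega)
  unfold pr at h2
  have hg : 1 ≤ Nat.gcd n (q + 1) := Nat.gcd_pos_of_pos_left _ (by omega)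
  have he : n * (n - 1) / 2 + n * (n + 1) / 2 = n ^ 2 := by
    have e1 : 2 ∣ n * (n - 1) := (Nat.even_mul_pred_self n).two_dvd
    have e2 : 2 ∣ n * (n + 1) := (Nat.even_mul_succ_self n).two_dvd
    obtain ⟨a, ha⟩ := e1
    obtain ⟨b, hb⟩ := e2
    rw [ha, hb, Nat.mul_div_cancel_left _ (by norm_num), Nat.mul_div_cancel_left _ (by norm_num)]
    obtain ⟨c, rfl⟩ : ∃ c, n = c + 1 := ⟨n - 1, by omega⟩
    simp only [Nat.add_sub_cancel] at ha
    nlinarith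
  have h3 : (q + 1) * (q * Nat.card (PSU n F q)) ≤ (q + 1) * q ^ n ^ 2 := by
    calc (q + 1) * (q * Nat.card (PSU n F q)) = 1 * ((q + 1) * Nat.card (PSU n F q)) * q := by ring
      _ ≤ (Nat.gcd n (q + 1) * ((q + 1) * Nat.card (PSU n F q))) * q :=
        Nat.mul_le_mul_right _ (Nat.mul_le_mul_right _ hg)
      _ = q ^ (n * (n - 1) / 2) * ((∏ i ∈ Finset.range n,
          (if Even i then q ^ (i + 1) + 1 else q ^ (i + 1) - 1)) * q) := by rw [h1, mul_assoc]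
      _ ≤ q ^ (n * (n - 1) / 2) * ((q + 1) * q ^ (n * (n + 1) / 2)) := Nat.mul_le_mul_left _ h2
      _ = (q + 1) * q ^ n ^ 2 := by rw [← he, pow_add]; ring
  exact Nat.le_of_mul_le_mul_left h3 (by omega)

theorem card_psu_le' {F : Type*} [Field F] [Fintype F] {q : ℕ} (hF : Fintype.card F = q ^ 2) {n : ℕ}
    (hn : 2 ≤ n) : Nat.card (PSU n F q) ≤ q ^ n ^ 2 := by
  refine le_trans ?_ (card_psu_le hF hn)
  refine Nat.le_mul_of_pos_left _ ?_
  rcases Nat.eq_zero_or_pos q with h | h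
  · rw [h] at hF
    have := Fintype.card_pos (α := F)
    rw [hF] at this
    norm_num at this
  · exact h

end Cfsg.Agent.H43.W53
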