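import Cfsg.Agent.H117.OrePoly
import Cfsg.Agent.H950.War.Defs

/-!
# S2453, row `PSU_n(q)`: the class of `x ^ e`

`F` has `q²` elements, `2 * (e * (q + 1)) < q ^ m`, `m ≥ 2`.  There is an irreducible `f` of degree `m`, coprime to its
`σ`-reverse, not fixed by the nontrivial root scalings by elements of norm one, such that every matrix `X` with
characteristic polynomial `f` is `Z ^ e` with `det Z` fixed by `σ` and `Z ^ (q ^ (2 m) - 1) = 1`.
-/

set_option autoImplicit false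
namespace Cfsg.Agent.H43.W53
open Module Polynomial Matrix Cfsg.Agent.H117.OrePoly Cfsg.Agent.H950.War

section arith

theorem c1 {q m d N e : ℕ} (hq : 2 ≤ q) (hd : 0 < d) (hdm : 2 * d ≤ m)
    (hN : N * (q + 1) = (q ^ 2) ^ m - 1) (he : 0 < e) (hb : 2 * (e * (q + 1)) < q ^ m)
    (h : N ∣ e * ((q ^ 2) ^ d - 1)) : False := by
  have h4 : 1 < (q ^ 2) ^ d := Nat.one_lt_pow hd.ne' (by nlinarith)
  have h1 : N ≤ e * ((q ^ 2) ^ d - 1) := Nat.le_of_dvd (Nat.mul_pos he (by omega)) h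
  have h2 : (q ^ 2) ^ d ≤ q ^ m := by
    rw [← pow_mul]; exact Nat.pow_le_pow_right (by omega) hdm
  have h3 : (q ^ 2) ^ m = q ^ m * q ^ m := by rw [← pow_mul, two_mul, pow_add]
  obtain ⟨x, hx⟩ : ∃ x, q ^ m = x + 1 := ⟨q ^ m - 1, by omega⟩
  have h5 : (q ^ 2) ^ m - 1 = x * (x + 2) := by
    rw [h3, hx]
    have : (x + 1) * (x + 1) = x * (x + 2) + 1 := by ring
    omega
  rw [h5] at hN
  have h6 : x * (x + 2) ≤ x * (e * (q + 1)) := by
    calc x * (x + 2) = N * (q + 1) := hN.symm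
      _ ≤ (e * ((q ^ 2) ^ d - 1)) * (q + 1) := Nat.mul_le_mul_right _ h1
      _ ≤ (e * x) * (q + 1) := Nat.mul_le_mul_right _ (Nat.mul_le_mul_left _ (by omega))
      _ = x * (e * (q + 1)) := by ring
  have h7 : 0 < x := by
    have : 0 < e * (q + 1) := Nat.mul_pos he (by omega)
    omega
  have h8 := Nat.le_of_mul_le_mul_left h6 h7
  omega

theorem c2a {q m i N e : ℕ} (hq : 2 ≤ q) (hem : i ≤ m)
    (hN : N * (q + 1) = (q ^ 2) ^ m - 1) (he : 0 < e) (hb : 2 * (e * (q + 1)) < q ^ m)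
    (h : N ∣ e * (q ^ i + 1)) : False := by
  have h1 : N ≤ e * (q ^ i + 1) := Nat.le_of_dvd (Nat.mul_pos he (by omega)) h
  have h2 : q ^ i ≤ q ^ m := Nat.pow_le_pow_right (by omega) hem
  have h3 : (q ^ 2) ^ m = q ^ m * q ^ m := by rw [← pow_mul, two_mul, pow_add]
  have hpos : 0 < e * (q + 1) := Nat.mul_pos he (by omega)
  obtain ⟨x, hx⟩ : ∃ x, q ^ m = x + 1 := ⟨q ^ m - 1, by omega⟩
  have h5 : (q ^ 2) ^ m - 1 = x * (x + 2) := by
    rw [h3, hx]
    have : (x + 1) * (x + 1) = x * (x + 2) + 1 := by ring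
    omega
  rw [h5] at hN
  have h6 : (x + 2) * x ≤ (x + 2) * (e * (q + 1)) := by
    calc (x + 2) * x = N * (q + 1) := by rw [hN]; ring
      _ ≤ (e * (q ^ i + 1)) * (q + 1) := Nat.mul_le_mul_right _ h1
      _ ≤ (e * (x + 2)) * (q + 1) := Nat.mul_le_mul_right _ (Nat.mul_le_mul_left _ (by omega))
      _ = (x + 2) * (e * (q + 1)) := by ring
  have h8 := Nat.le_of_mul_le_mul_left h6 (by omega)
  omega

theorem c2 {q m j N e : ℕ} (hq : 2 ≤ q) (hj : j < m)
    (hN : N * (q + 1) = (q ^ 2) ^ m - 1) (he : 0 < e) (hb : 2 * (e * (q + 1)) < q ^ m)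
    (h : N ∣ e * ((q ^ 2) ^ j * q + 1)) : False := by
  have h0 : (q ^ 2) ^ j * q = q ^ (2 * j + 1) := by rw [← pow_mul, pow_succ]
  rw [h0] at h
  rcases Nat.lt_or_ge m (2 * j + 1) with hlt | hge
  · refine c2a (i := 2 * m - (2 * j + 1)) hq (by omega) hN he hb ?_
    have h1 : q ^ (2 * m - (2 * j + 1)) * (q ^ (2 * j + 1) + 1)
        = ((q ^ 2) ^ m - 1) + (q ^ (2 * m - (2 * j + 1)) + 1) := by
      have : 1 ≤ (q ^ 2) ^ m := Nat.one_le_pow _ _ (by positivity)
      rw [mul_add, ← pow_add, show 2 * m - (2 * j + 1) + (2 * j + 1) = 2 * m by omega, pow_mul]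
      omega
    have h2 : N ∣ e * ((q ^ 2) ^ m - 1) := Dvd.dvd.mul_left ⟨q + 1, hN.symm⟩ _
    have h3 : e * (q ^ (2 * m - (2 * j + 1)) * (q ^ (2 * j + 1) + 1)) =
        e * ((q ^ 2) ^ m - 1) + e * (q ^ (2 * m - (2 * j + 1)) + 1) := by rw [h1, mul_add]
    have h4 : N ∣ e * (q ^ (2 * m - (2 * j + 1)) * (q ^ (2 * j + 1) + 1)) := by
      have : e * (q ^ (2 * m - (2 * j + 1)) * (q ^ (2 * j + 1) + 1)) =
        q ^ (2 * m - (2 * j + 1)) * (e * (q ^ (2 * j + 1) + 1)) := by ring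
      rw [this]
      exact Dvd.dvd.mul_left h _
    exact (Nat.dvd_add_right h2).1 (h3 ▸ h4)
  · exact c2a hq hge hN he hb h

theorem two_pow_ge (c : ℕ) : c + 2 ≤ 2 * 2 ^ c := by
  induction c with
  | zero => norm_num
  | succ c ih => rw [pow_succ]; omega

/-- `d ≥ 2`, `g * d ≤ m` -/
theorem c3 {q m g d N e : ℕ} (hq : 2 ≤ q) (hg : 0 < g) (hd : 2 ≤ d) (hgd : g * d ≤ m)
    (hN : N * (q + 1) = (q ^ 2) ^ m - 1) (he : 0 < e) (hb : 2 * (e * (q + 1)) < q ^ m)
    (h : N ∣ e * (d * ((q ^ 2) ^ g - 1))) : False := by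
  have h4 : 1 < (q ^ 2) ^ g := Nat.one_lt_pow hg.ne' (by nlinarith)
  have h1 : N ≤ e * (d * ((q ^ 2) ^ g - 1)) :=
    Nat.le_of_dvd (Nat.mul_pos he (Nat.mul_pos (by omega) (by omega))) h
  have h3 : (q ^ 2) ^ m = q ^ m * q ^ m := by rw [← pow_mul, two_mul, pow_add]
  have hpos : 0 < e * (q + 1) := Nat.mul_pos he (by omega)
  obtain ⟨x, hx⟩ : ∃ x, q ^ m = x + 1 := ⟨q ^ m - 1, by omega⟩
  obtain ⟨y, hy⟩ : ∃ y, (q ^ 2) ^ g = y + 1 := ⟨(q ^ 2) ^ g - 1, by omega⟩
  -- d y ≤ 2 x + 2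
  have h6 : d * (y + 1) ≤ 2 * (x + 1) := by
    rw [← hy, ← hx]
    obtain ⟨c, rfl⟩ : ∃ c, d = c + 2 := ⟨d - 2, by omega⟩
    have e1 : q ^ (g * (c + 2)) ≤ q ^ m := Nat.pow_le_pow_right (by omega) hgd
    have e2 : q ^ (g * (c + 2)) = (q ^ 2) ^ g * q ^ (g * c) := by
      rw [← pow_mul, ← pow_add]; congr 1; ring
    have e3 : 2 ^ c ≤ q ^ (g * c) :=
      (Nat.pow_le_pow_left hq c).trans (Nat.pow_le_pow_right (by omega) (Nat.le_mul_of_pos_left c hg))
    have e4 : c + 2 ≤ 2 * 2 ^ c := two_pow_ge c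
    calc (c + 2) * (q ^ 2) ^ g ≤ (2 * 2 ^ c) * (q ^ 2) ^ g := Nat.mul_le_mul_right _ e4
      _ ≤ (2 * q ^ (g * c)) * (q ^ 2) ^ g := Nat.mul_le_mul_right _ (Nat.mul_le_mul_left _ e3)
      _ = 2 * ((q ^ 2) ^ g * q ^ (g * c)) := by ring
      _ ≤ 2 * q ^ m := by rw [← e2]; exact Nat.mul_le_mul_left _ e1
  have h5 : (q ^ 2) ^ m - 1 = x * (x + 2) := by
    rw [h3, hx]
    have : (x + 1) * (x + 1) = x * (x + 2) + 1 := by ring
    omega
  rw [h5] at hN
  rw [hy] at h1
  simp only [Nat.add_sub_cancel] at h1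
  rw [hx] at hb
  have hy0 : 0 < y := by omega
  have hx0 : 0 < x := by omega
  -- x (x + 2) ≤ e (q + 1) d y, 2 e (q + 1) ≤ x, d y ≤ 2 x + 2 - d < 2 (x + 2)
  have h7 : x * (x + 2) ≤ (e * (q + 1)) * (d * y) := by
    calc x * (x + 2) = N * (q + 1) := hN.symm
      _ ≤ (e * (d * y)) * (q + 1) := Nat.mul_le_mul_right _ h1
      _ = (e * (q + 1)) * (d * y) := by ring
  have h8 : 2 * ((e * (q + 1)) * (d * y)) ≤ x * (d * y) := by
    rw [← mul_assoc]; exact Nat.mul_le_mul_right _ (by omega)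
  have h9 : d * y < 2 * (x + 2) := by
    have : d * (y + 1) = d * y + d := by ring
    omega
  have h10 : x * (d * y) < x * (2 * (x + 2)) := Nat.mul_lt_mul_of_pos_left h9 hx0
  have h11 : x * (2 * (x + 2)) = 2 * (x * (x + 2)) := by ring
  omega

end arith

section fld

/-- **The polynomial.** -/
theorem exists_pw {F : Type*} [Field F] [Fintype F] {q : ℕ} (hF : Fintype.card F = q ^ 2) (σ : F →+* F)
    (hσ : ∀ a, σ a = a ^ q) {m e : ℕ} (hm : 2 ≤ m) (he : 1 ≤ e) (hb : 2 * (e * (q + 1)) < q ^ m) :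
    ∃ f : F[X], PW q σ m e f := by
  classical
  have hq : 2 ≤ q := by
    have h1 : 1 < Fintype.card F := Fintype.one_lt_card
    rw [hF] at h1
    by_contra hcon
    interval_cases q <;> simp at h1
  obtain ⟨p, hp⟩ := CharP.exists F
  obtain ⟨n, hpp, hcard⟩ := FiniteField.card F p
  have : Fact p.Prime := ⟨hpp⟩
  have : NeZero m := ⟨by omega⟩
  obtain ⟨k, -, hk⟩ : ∃ k ≤ (n : ℕ), q = p ^ k :=
    (Nat.dvd_prime_pow hpp).1 (by rw [← hcard, hF]; exact dvd_pow_self _ (by norm_num))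
  set E := FiniteField.Extension F p m with hE
  have hEcard : Nat.card E = (q ^ 2) ^ m := by
    rw [hE, FiniteField.natCard_extension, Nat.card_eq_fintype_card, hF]
  have hEfin : finrank F E = m := FiniteField.finrank_extension F p m
  have : FiniteDimensional F E := inferInstance
  have : CharP E p := charP_of_injective_algebraMap (algebraMap F E).injective p
  have hQm1 : 1 < (q ^ 2) ^ m := Nat.one_lt_pow (by omega) (by nlinarith)
  -- the generator
  obtain ⟨η, hη⟩ := IsCyclic.exists_generator (α := Eˣ)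
  have hηord : orderOf η = (q ^ 2) ^ m - 1 := by
    rw [orderOf_eq_card_of_forall_mem_zpowers hη, Nat.card_units, hEcard]
  have hdvd : q + 1 ∣ (q ^ 2) ^ m - 1 := by
    have h1 : q ^ 2 - 1 ∣ (q ^ 2) ^ m - 1 := by
      simpa using Nat.sub_dvd_pow_sub_pow (q ^ 2) 1 m
    refine dvd_trans ⟨q - 1, ?_⟩ h1
    obtain ⟨r, rfl⟩ : ∃ r, q = r + 1 := ⟨q - 1, by omega⟩
    have : (r + 1) ^ 2 = (r + 1 + 1) * r + 1 := by ring
    rw [this]; simp
  obtain ⟨N, hN'⟩ := hdvd
  have hN : N * (q + 1) = (q ^ 2) ^ m - 1 := by rw [hN', mul_comm]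
  have hN0 : 0 < N := by
    rcases Nat.eq_zero_or_pos N with h0 | h0
    · rw [h0] at hN; omega
    · exact h0
  have hξord : orderOf ((η ^ (q + 1) : Eˣ) : E) = N := by
    rw [orderOf_units, orderOf_pow, hηord, hN', Nat.gcd_mul_right_left, Nat.mul_div_cancel_left _ (by omega)]
  set ξ : E := ((η ^ (q + 1) : Eˣ) : E) with hξ
  have hξ0 : ξ ≠ 0 := Units.ne_zero _
  have hξη : ξ = (η : E) ^ (q + 1) := by rw [hξ, Units.val_pow_eq_pow_val]
  set ζ : E := ξ ^ e with hζ
  have hζ0 : ζ ≠ 0 := pow_ne_zero _ hξ0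
  have hord : ∀ k : ℕ, ζ ^ k = 1 ↔ N ∣ e * k := fun k => by
    rw [hζ, ← pow_mul, ← hξord, orderOf_dvd_iff_pow_eq_one]
  have hint : IsIntegral F ζ := Algebra.IsIntegral.isIntegral ζ
  -- the degree
  have hdeg : (minpoly F ζ).natDegree = m := by
    set K := IntermediateField.adjoin F {ζ} with hK
    have h1 : finrank F K = (minpoly F ζ).natDegree := IntermediateField.adjoin.finrank hint
    have h2 : finrank F K * finrank K E = m := by rw [finrank_mul_finrank, hEfin]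
    have h3 : Nat.card K = (q ^ 2) ^ finrank F K := by
      rw [Module.natCard_eq_pow_finrank (K := F), Nat.card_eq_fintype_card, hF]
    have h4 : N ∣ e * ((q ^ 2) ^ finrank F K - 1) := by
      rw [← hord, ← h3]
      have := Fintype.ofFinite K
      have h5 : (⟨ζ, IntermediateField.mem_adjoin_simple_self F ζ⟩ : K) ^ (Nat.card K - 1) = 1 := by
        rw [Nat.card_eq_fintype_card]
        exact FiniteField.pow_card_sub_one_eq_one _ (by
          intro h; exact hζ0 (congrArg Subtype.val h))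
      exact congrArg Subtype.val h5
    have h5 : 0 < finrank F K := finrank_pos
    rw [← h1]
    by_contra hne
    have h6 : 2 ≤ finrank K E := by
      have h7 : 0 < finrank K E := finrank_pos
      rcases Nat.lt_or_ge (finrank K E) 2 with h8 | h8
      · have h9 : finrank K E = 1 := by omega
        rw [h9, mul_one] at h2
        exact absurd h2 hne
      · exact h8
    refine c1 (m := m) hq h5 ?_ hN he hb h4
    calc 2 * finrank F K = finrank F K * 2 := mul_comm _ _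
      _ ≤ finrank F K * finrank K E := Nat.mul_le_mul_left _ h6
      _ = m := h2
  -- the roots
  have hroot : ∀ θ : E, aeval θ (minpoly F ζ) = 0 → ∃ j < m, θ = ζ ^ (q ^ 2) ^ j := by
    intro θ hθ
    obtain ⟨τ, hτ⟩ := minpoly.exists_algEquiv_of_root' (hint.isAlgebraic) hθ
    obtain ⟨i, hi, hiτ⟩ := FiniteField.Extension.exists_frob_pow_eq F p m τ
    refine ⟨i, hi, ?_⟩
    rw [← hτ, ← hiτ, FiniteField.Extension.frob_iterate_apply, Nat.card_eq_fintype_card, hF]
  -- elements a ^ (q + 1)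
  have hfix : ∀ a : F, σ (a ^ (q + 1)) = a ^ (q + 1) := by
    intro a
    have h1 : a ^ q ^ 2 = a := by rw [← hF]; exact FiniteField.pow_card a
    rw [hσ, ← pow_mul, show (q + 1) * q = q ^ 2 + q by ring, pow_add, h1, pow_succ, mul_comm]
  refine ⟨minpoly F ζ, minpoly.irreducible hint, minpoly.monic hint, hdeg, ?_, ?_, ?_, ?_⟩
  · -- the constant term
    have h1 := coeff_zero_eq (F := F) (x := ζ) (by rw [hdeg, hEfin])
    have h3 : σ (Algebra.norm F ζ) = Algebra.norm F ζ := by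
      have : Algebra.norm F ζ = ((Algebra.norm F (η : E)) ^ e) ^ (q + 1) := by
        rw [hζ, hξη, map_pow, map_pow, ← pow_mul, ← pow_mul, mul_comm]
      rw [this, hfix]
    rw [h1, map_mul, map_pow, map_neg, map_one] at h3
    exact mul_left_cancel₀ (pow_ne_zero _ (neg_ne_zero.2 one_ne_zero)) h3
  · -- coprime to the reverse
    rw [(minpoly.irreducible hint).coprime_iff_not_dvd]
    intro hdv
    have h1 : aeval ζ (((minpoly F ζ).map σ).reverse) = 0 := by
      obtain ⟨g, hg⟩ := hdv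
      rw [hg, map_mul, minpoly.aeval, zero_mul]
    let _ : Invertible (ζ⁻¹) := invertibleOfNonzero (inv_ne_zero hζ0)
    have h2 : aeval ζ⁻¹ ((minpoly F ζ).map σ) = 0 := by
      have h3 := eval₂_reverse_eq_zero_iff (algebraMap F E) ζ⁻¹ ((minpoly F ζ).map σ)
      rw [invOf_eq_inv, inv_inv] at h3
      exact h3.1 h1
    let φ : E →+* E := iterateFrobenius E p k
    have hφ : ∀ x, φ x = x ^ q := fun x => by rw [hk]; exact iterateFrobenius_def p k x
    have hcomp : (algebraMap F E).comp σ = φ.comp (algebraMap F E) := by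
      ext a
      simp [hφ, hσ]
    obtain ⟨θ, hθ⟩ : ∃ θ, φ θ = ζ⁻¹ := (Finite.injective_iff_surjective.1 φ.injective) _
    have h4 : aeval θ (minpoly F ζ) = 0 := by
      apply φ.injective
      rw [map_zero, ← h2, aeval_def, aeval_def, eval₂_map, hcomp, ← hθ, hom_eval₂]
    obtain ⟨j, hj, hjθ⟩ := hroot θ h4
    have h5 : ζ ^ ((q ^ 2) ^ j * q + 1) = 1 := by
      rw [pow_succ, pow_mul, ← hjθ, ← hφ, hθ, inv_mul_cancel₀ hζ0]
    exact c2 hq hj hN he hb ((hord _).1 h5)
  · -- scaling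
    intro l hl hlm hl1 hcon
    have h1 := scaleRoots_aeval_eq_zero (R := F) (A := E) (p := minpoly F ζ) (a := ζ) (r := l)
      (minpoly.aeval F ζ)
    rw [hcon] at h1
    obtain ⟨j, hj, hjl⟩ := hroot _ h1
    have hpos : 1 ≤ (q ^ 2) ^ j := Nat.one_le_pow _ _ (by positivity)
    have h2 : algebraMap F E l = ζ ^ ((q ^ 2) ^ j - 1) := by
      apply mul_right_cancel₀ hζ0
      rw [hjl, ← pow_succ, Nat.sub_add_cancel hpos]
    rcases Nat.eq_zero_or_pos j with h0 | h0
    · apply hl1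
      apply (algebraMap F E).injective
      rw [h2, h0, map_one]; simp
    obtain ⟨d, hd⟩ : ∃ d, d = orderOf l := ⟨_, rfl⟩
    have hd0 : 0 < d := by
      rw [hd]
      exact orderOf_pos_iff.2 (isOfFinOrder_iff_pow_eq_one.2 ⟨q + 1, by omega, hl⟩)
    have hd1 : d ≠ 1 := by
      intro h
      rw [h] at hd
      exact hl1 (orderOf_eq_one_iff.1 hd.symm)
    have hld : l ^ d = 1 := by rw [hd]; exact pow_orderOf_eq_one l
    -- the powers of the Frobenius map
    have h3 : ∀ i : ℕ, ζ ^ (q ^ 2) ^ (j * i) = algebraMap F E l ^ i * ζ := by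
      intro i
      induction i with
      | zero => simp
      | succ i ih =>
        have h4 : algebraMap F E l ^ (q ^ 2) ^ j = algebraMap F E l := by
          rw [← map_pow, ← hF]
          congr 1
          exact FiniteField.pow_card_pow j l
        rw [mul_add, mul_one, pow_add, pow_mul, ih, mul_pow, ← pow_mul, mul_comm i, pow_mul, h4,
          ← hjl, ← mul_assoc, ← pow_succ]
    set g := Nat.gcd m j with hg
    have hg0 : 0 < g := Nat.gcd_pos_of_pos_right _ h0
    obtain ⟨r, hr⟩ : g ∣ m := Nat.gcd_dvd_left _ _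
    obtain ⟨s, hs⟩ : g ∣ j := Nat.gcd_dvd_right _ _
    have hjr : j * r = m * s := by
      have e1 : j * r = g * s * r := congrArg (· * r) hs
      have e2 : m * s = g * r * s := congrArg (· * s) hr
      rw [e1, e2]; ring
    have hdr : d ∣ r := by
      rw [hd]
      apply orderOf_dvd_of_pow_eq_one
      apply (algebraMap F E).injective
      rw [map_pow, map_one]
      apply mul_right_cancel₀ hζ0
      rw [← h3, one_mul, hjr]
      rw [pow_mul, ← hEcard]
      have := Fintype.ofFinite E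
      rw [Nat.card_eq_fintype_card]
      exact FiniteField.pow_card_pow s ζ
    have hr0 : 0 < r := by
      rcases Nat.eq_zero_or_pos r with h | h
      · rw [h] at hr; omega
      · exact h
    have hgd : g * d ≤ m := by
      rw [hr]
      exact Nat.mul_le_mul_left _ (Nat.le_of_dvd hr0 hdr)
    have h5 : N ∣ e * d * ((q ^ 2) ^ j - 1) := by
      have h6 : ζ ^ (((q ^ 2) ^ j - 1) * d) = 1 := by
        rw [pow_mul, ← h2, ← map_pow, hld, map_one]
      have h7 := (hord _).1 h6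
      rwa [mul_comm _ d, ← mul_assoc] at h7
    have h6 : N ∣ e * d * ((q ^ 2) ^ m - 1) := Dvd.dvd.mul_left ⟨q + 1, hN.symm⟩ _
    have h7 := Nat.dvd_gcd h6 h5
    rw [Nat.gcd_mul_left, Nat.pow_sub_one_gcd_pow_sub_one, ← hg, mul_assoc] at h7
    exact c3 hq hg0 (by omega) hgd hN he hb h7
  · -- roots of matrices
    intro ι _ _ Z hZ
    have htop : Algebra.adjoin F {ζ} = ⊤ := by
      have h1 : IntermediateField.adjoin F {ζ} = ⊤ := by
        apply IntermediateField.eq_of_le_of_finrank_eq le_top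
        rw [IntermediateField.adjoin.finrank hint, hdeg, IntermediateField.finrank_top', hEfin]
      rw [← IntermediateField.adjoin_simple_toSubalgebra_of_isAlgebraic hint.isAlgebraic, h1]
      rfl
    let pb := PowerBasis.ofAdjoinEqTop hint htop
    have hgen : pb.gen = ζ := PowerBasis.ofAdjoinEqTop_gen hint htop
    have hZ0 : aeval Z (minpoly F pb.gen) = 0 := by
      rw [hgen, ← hZ]
      exact Matrix.aeval_self_charpoly Z
    let Φ : E →ₐ[F] Matrix ι ι F := pb.lift Z hZ0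
    have hΦ : Φ ζ = Z := by
      have := pb.lift_gen Z hZ0
      rwa [hgen] at this
    refine ⟨Φ ξ, ?_, ?_, ?_⟩
    · rw [← map_pow, ← hζ, hΦ]
    · have : (Φ ξ).det = (Φ (η : E)).det ^ (q + 1) := by
        rw [hξη, map_pow, Matrix.det_pow]
      rw [this, hfix]
    · rw [← map_pow]
      have h1 : ξ ^ (q ^ (2 * m) - 1) = 1 := by
        rw [← orderOf_dvd_iff_pow_eq_one, hξord, pow_mul]
        exact ⟨q + 1, hN.symm⟩
      rw [h1, map_one]

end fld

end Cfsg.Agent.H43.W53
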